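import Groth.Agent.GaPoints.Basic
import Groth.Agent.DSMapLib.Exact
import Groth.Agent.SchDesc.Family
import Groth.Prelude.Def_TwC
/-!
The Artin–Schreier sequence is exact for the fpqc topology.
-/

set_option autoImplicit false
set_option backward.isDefEq.respectTransparency false
set_option backward.isDefEq.respectTransparency.types false
set_option linter.style.haveILetI false

universe u

open CategoryTheory CategoryTheory.Limits MonoidalCategory CartesianMonoidalCategory MonObj AlgebraicGeometry Opposite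

noncomputable section

namespace Groth.Agent.ASSeq

variable {p : ℕ} [Fact p.Prime]

theorem charZero_elim {R : Type u} [CommRing R] (hp : (p : R) = 0) : Nonempty (ZMod p →+* R) :=
  haveI := ringChar.charP R
  ⟨ZMod.castHom (show ringChar R ∣ p from ringChar.dvd hp) R⟩

theorem prod_sub_eq {R : Type u} [CommRing R] (φ : ZMod p →+* R) (x : R) :
    ∏ a : ZMod p, (x - φ a) = x ^ p - x := by
  have hroots : ((Polynomial.X : Polynomial (ZMod p)) ^ p - Polynomial.X).roots = Finset.univ.val := by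
    have := FiniteField.roots_X_pow_card_sub_X (ZMod p)
    rwa [ZMod.card] at this
  have hdeg : ((Polynomial.X : Polynomial (ZMod p)) ^ p - Polynomial.X).natDegree = p :=
    FiniteField.X_pow_card_sub_X_natDegree_eq _ (Fact.out : p.Prime).one_lt
  have hm : ((Polynomial.X : Polynomial (ZMod p)) ^ p - Polynomial.X).Monic :=
    Polynomial.monic_X_pow_sub (by
      rw [Polynomial.degree_X]
      exact_mod_cast (Fact.out : p.Prime).one_lt)
  have h := Polynomial.prod_multiset_X_sub_C_of_monic_of_roots_card_eq hm (by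
    rw [hroots, hdeg]
    simp)
  rw [hroots] at h
  have h2 := congrArg (Polynomial.eval₂ φ x) h
  simp only [Finset.prod_map_val, Polynomial.eval₂_finsetProd, Polynomial.eval₂_sub, Polynomial.eval₂_X,
    Polynomial.eval₂_C, Polynomial.eval₂_X_pow] at h2
  exact h2

theorem isUnit_sub {R : Type u} [CommRing R] (φ : ZMod p →+* R) {a b : ZMod p} (h : a ≠ b) : IsUnit (φ a - φ b) := by
  rw [← map_sub]
  exact (IsUnit.mk0 _ (sub_ne_zero.2 h)).map φ

theorem exists_factor {R : Type u} [CommRing R] [IsLocalRing R] (φ : ZMod p →+* R) (x : R) (hx : x ^ p = x) :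
    ∃ a : ZMod p, IsUnit (∏ b ∈ Finset.univ.erase a, (x - φ b)) := by
  have h0 : ∏ a : ZMod p, (x - φ a) = 0 := by rw [prod_sub_eq, hx, sub_self]
  obtain ⟨a, ha⟩ : ∃ a, ¬ IsUnit (x - φ a) := by
    by_contra h
    simp only [not_exists, not_not] at h
    exact not_isUnit_zero (h0 ▸ IsUnit.prod_iff.2 fun a _ => h a)
  refine ⟨a, IsUnit.prod_iff.2 fun b hb => ?_⟩
  by_contra hb'
  have hne : b ≠ a := (Finset.mem_erase.1 hb).1
  have : φ b - φ a ∈ IsLocalRing.maximalIdeal R := by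
    rw [show φ b - φ a = (x - φ a) - (x - φ b) by ring]
    exact Ideal.sub_mem _ ((IsLocalRing.mem_maximalIdeal _).2 ha) ((IsLocalRing.mem_maximalIdeal _).2 hb')
  exact (IsLocalRing.mem_maximalIdeal _).1 this (isUnit_sub φ hne)

variable {S : Scheme.{u}}

theorem isUnit_appTop_basicOpen (X : Scheme.{u}) (t : Γ(X, ⊤)) : IsUnit ((X.basicOpen t).ι.appTop t) := by
  refine (X.basicOpen t).toScheme.toRingedSpace.isUnit_of_isUnit_germ ⊤ _ fun z _ => ?_
  have h : IsUnit (X.presheaf.germ ⊤ ((X.basicOpen t).ι z) trivial t) :=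
    (Scheme.mem_basicOpen_top X t _).1 z.2
  have h2 := h.map ((X.basicOpen t).ι.stalkMap z).hom
  rw [Scheme.Hom.germ_stalkMap_apply] at h2
  exact h2

theorem germ_eq_of_appTop_ι_eq {X : Scheme.{u}} (U : X.Opens) {y : X} (hy : y ∈ U) {s t : Γ(X, ⊤)}
    (h : U.ι.appTop s = U.ι.appTop t) : X.presheaf.germ ⊤ y trivial s = X.presheaf.germ ⊤ y trivial t := by
  let z : U.toScheme := ⟨y, hy⟩
  apply (asIso (U.ι.stalkMap z)).commRingCatIsoToRingEquiv.injective
  show U.ι.stalkMap z (X.presheaf.germ ⊤ (U.ι z) trivial s) = U.ι.stalkMap z (X.presheaf.germ ⊤ (U.ι z) trivial t)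
  rw [Scheme.Hom.germ_stalkMap_apply, Scheme.Hom.germ_stalkMap_apply]
  exact congrArg _ h

theorem natCast_eq_zero (hp : (p : Γ(S, ⊤)) = 0) (X : Over S) : (p : Γ(X.left, ⊤)) = 0 := by
  rw [← map_natCast X.hom.appTop.hom p, hp, map_zero]

theorem gaFn_inv {X : Over S} (x : X ⟶ Red.Ga S) : Red.gaFn x⁻¹ = -Red.gaFn x := by
  have h := GaPoints.gaFn_mul x x⁻¹
  rw [mul_inv_cancel, GaPoints.gaFn_one] at h
  exact (neg_eq_of_add_eq_zero_right h.symm).symm

theorem gaFn_asMap {F : Red.Ga S ⟶ Red.Ga S} (hF : ∀ (T : Over S) (x : T ⟶ Red.Ga S), Red.gaFn (x ≫ F) = Red.gaFn x ^ p)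
    {X : Over S} (x : X ⟶ Red.Ga S) : Red.gaFn (x ≫ (𝟙 (Red.Ga S) * F⁻¹)) = Red.gaFn x - Red.gaFn x ^ p := by
  rw [MonObj.comp_mul, GrpObj.comp_inv, Category.comp_id, GaPoints.gaFn_mul, gaFn_inv, hF, sub_eq_add_neg]

theorem isMonHom_asMap (hp : (p : Γ(S, ⊤)) = 0) {F : Red.Ga S ⟶ Red.Ga S}
    (hF : ∀ (T : Over S) (x : T ⟶ Red.Ga S), Red.gaFn (x ≫ F) = Red.gaFn x ^ p) :
    IsMonHom (𝟙 (Red.Ga S) * F⁻¹) := by
  have hmul : ∀ (X : Over S) (x y : X ⟶ Red.Ga S), (x * y) ≫ (𝟙 (Red.Ga S) * F⁻¹) =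
      (x ≫ (𝟙 (Red.Ga S) * F⁻¹)) * (y ≫ (𝟙 (Red.Ga S) * F⁻¹)) := fun X x y => by
    apply GaPoints.gaFn_injective
    rw [gaFn_asMap hF, GaPoints.gaFn_mul, GaPoints.gaFn_mul, gaFn_asMap hF, gaFn_asMap hF]
    obtain ⟨r, hr⟩ := exists_add_pow_prime_eq (Fact.out : p.Prime) (Red.gaFn x) (Red.gaFn y)
    rw [hr, natCast_eq_zero hp X]
    ring
  constructor
  · rw [MonObj.one_eq_one]
    apply GaPoints.gaFn_injective
    rw [gaFn_asMap hF, GaPoints.gaFn_one, zero_pow (Fact.out : p.Prime).ne_zero, sub_zero]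
  · generalize (𝟙 (Red.Ga S) * F⁻¹) = v at hmul ⊢
    have h := hmul _ (fst (Red.Ga S) (Red.Ga S)) (snd _ _)
    rw [MonObj.mul_eq_mul, MonObj.comp_mul, tensorHom_fst, tensorHom_snd]
    exact h

variable {G' : Over S} [GrpObj G'] (e : G' ≅ TwC.const S (Multiplicative (ZMod p)))
  (i : G' ⟶ Red.Ga S)

theorem gaFn_pt [IsMonHom i] (he : TwC.IsConstGrp (Multiplicative (ZMod p)) G' e)
    (hi : Red.gaFn (TwC.pt S (Multiplicative (ZMod p)) (Multiplicative.ofAdd 1) ≫ e.inv ≫ i) = 1)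
    {X : Over S} (φ : ZMod p →+* Γ(X.left, ⊤)) (a : ZMod p) :
    Red.gaFn (toUnit X ≫ TwC.pt S (Multiplicative (ZMod p)) (Multiplicative.ofAdd a) ≫ e.inv ≫ i) = φ a := by
  let f : ZMod p →+ Γ(X.left, ⊤) := AddMonoidHom.mk' (fun a => Red.gaFn
    (toUnit X ≫ TwC.pt S (Multiplicative (ZMod p)) (Multiplicative.ofAdd a) ≫ e.inv ≫ i)) fun a b => by
      rw [← GaPoints.gaFn_mul, ← MonObj.comp_mul, ← Category.assoc _ e.inv i, ← Category.assoc _ e.inv i,
        ← Category.assoc _ e.inv i, ← MonObj.mul_comp, he, ofAdd_add]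
  have h1 : f 1 = φ 1 := by
    rw [map_one φ]
    show Red.gaFn (toUnit X ≫ _) = 1
    rw [GaPoints.gaFn_comp, hi, map_one]
  obtain ⟨n, rfl⟩ : ∃ n : ℕ, (n : ZMod p) = a := ⟨a.val, ZMod.natCast_zmod_val a⟩
  show f n = φ n
  rw [show ((n : ZMod p)) = n • (1 : ZMod p) by simp, map_nsmul, h1, map_nsmul]

theorem mono_left [IsMonHom i] (he : TwC.IsConstGrp (Multiplicative (ZMod p)) G' e)
    (hp : (p : Γ(S, ⊤)) = 0)
    (hi : Red.gaFn (TwC.pt S (Multiplicative (ZMod p)) (Multiplicative.ofAdd 1) ≫ e.inv ≫ i) = 1) :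
    Mono i.left := by
  constructor
  intro T f g hfg
  have hg : g ≫ G'.hom = f ≫ G'.hom := by rw [← Over.w i, reassoc_of% hfg]
  let f' : T ⟶ (TwC.const S (Multiplicative (ZMod p))).left := f ≫ e.hom.left
  let g' : T ⟶ (TwC.const S (Multiplicative (ZMod p))).left := g ≫ e.hom.left
  suffices f' = g' from (cancel_mono e.hom.left).1 this
  let inj : Multiplicative (ZMod p) → (S ⟶ (TwC.const S (Multiplicative (ZMod p))).left) :=
    fun a => Sigma.ι (fun _ : Multiplicative (ZMod p) => S) a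
  refine Scheme.hom_ext_of_forall _ _ fun y => ?_
  obtain ⟨a, za, hza⟩ : ∃ (c : Multiplicative (ZMod p)) (z : S), Sigma.ι (fun _ : Multiplicative (ZMod p) => S) c z = f' y :=
    (sigmaOpenCover fun _ : Multiplicative (ZMod p) => S).exists_eq (f' y)
  obtain ⟨b, zb, hzb⟩ : ∃ (c : Multiplicative (ZMod p)) (z : S), Sigma.ι (fun _ : Multiplicative (ZMod p) => S) c z = g' y :=
    (sigmaOpenCover fun _ : Multiplicative (ZMod p) => S).exists_eq (g' y)
  haveI : ∀ c, IsOpenImmersion (inj c) := fun c => (sigmaOpenCover fun _ : Multiplicative (ZMod p) => S).map_prop c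
  let U : T.Opens := f' ⁻¹ᵁ (inj a).opensRange ⊓ g' ⁻¹ᵁ (inj b).opensRange
  refine ⟨U, ⟨⟨za, hza⟩, ⟨zb, hzb⟩⟩, ?_⟩
  let X : Over S := Over.mk (U.ι ≫ f ≫ G'.hom)
  have hlift : ∀ (k : T ⟶ G'.left) (c : Multiplicative (ZMod p)), k ≫ G'.hom = f ≫ G'.hom →
      (∀ z ∈ U, (k ≫ e.hom.left) z ∈ Set.range (inj c)) →
      U.ι ≫ k ≫ e.hom.left = (U.ι ≫ f ≫ G'.hom) ≫ inj c := fun k c hk hr => by
    let l : U.toScheme ⟶ S := IsOpenImmersion.lift (inj c) (U.ι ≫ k ≫ e.hom.left) (by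
      rintro _ ⟨z, rfl⟩
      rw [Scheme.Hom.comp_apply]
      exact hr _ z.2)
    have hl : l ≫ inj c = U.ι ≫ k ≫ e.hom.left := IsOpenImmersion.lift_fac _ _ _
    have h2 := congrArg (· ≫ (TwC.const S (Multiplicative (ZMod p))).hom) hl
    simp only [Category.assoc, Over.w e.hom, hk] at h2
    have h3 : inj c ≫ (TwC.const S (Multiplicative (ZMod p))).hom = 𝟙 S := Sigma.ι_desc _ _
    rw [h3, Category.comp_id] at h2
    rw [← hl, h2]
  have ha := hlift f a rfl fun z hz => hz.1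
  have hb := hlift g b hg fun z hz => hz.2
  by_cases hab : a = b
  · show U.ι ≫ f' = U.ι ≫ g'
    rw [ha, hb, hab]
  obtain ⟨φ⟩ := charZero_elim (natCast_eq_zero hp X)
  let pa : X ⟶ G' := Over.homMk (U.ι ≫ f) (by simp [X])
  let pb : X ⟶ G' := Over.homMk (U.ι ≫ g) (by simp [X, hg])
  have hpt : ∀ (q : X ⟶ G') (c : Multiplicative (ZMod p)), q.left ≫ e.hom.left = X.hom ≫ inj c →
      q = toUnit X ≫ TwC.pt S _ c ≫ e.inv := fun q c h => by
    rw [← cancel_mono e.hom, Category.assoc, Category.assoc, Iso.inv_hom_id, Category.comp_id]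
    exact Over.OverMorphism.ext (h.trans (by simp [TwC.pt, inj]))
  have hpa := hpt pa a ((Category.assoc _ _ _).trans ha)
  have hpb := hpt pb b ((Category.assoc _ _ _).trans hb)
  have h4 : pa ≫ i = pb ≫ i := Over.OverMorphism.ext (by
    show (U.ι ≫ f) ≫ i.left = (U.ι ≫ g) ≫ i.left
    rw [Category.assoc, Category.assoc, hfg])
  rw [hpa, hpb, Category.assoc, Category.assoc, Category.assoc, Category.assoc] at h4
  have h5 := congrArg Red.gaFn h4
  rw [← ofAdd_toAdd a, ← ofAdd_toAdd b, gaFn_pt e i he hi φ, gaFn_pt e i he hi φ] at h5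
  have h6 : IsUnit (0 : Γ(X.left, ⊤)) := by
    rw [← sub_self (φ (Multiplicative.toAdd b))]
    nth_rewrite 1 [← h5]
    exact isUnit_sub φ fun h => hab (Multiplicative.toAdd.injective h)
  haveI : IsEmpty U.toScheme := ⟨fun z => by
    have h7 := h6.map (U.toScheme.presheaf.germ ⊤ z trivial).hom
    rw [map_zero] at h7
    exact not_isUnit_zero h7⟩
  exact SchDesc.hom_ext_of_isEmpty _ _

theorem exists_lift [IsMonHom i] (he : TwC.IsConstGrp (Multiplicative (ZMod p)) G' e)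
    (hp : (p : Γ(S, ⊤)) = 0)
    (hi : Red.gaFn (TwC.pt S (Multiplicative (ZMod p)) (Multiplicative.ofAdd 1) ≫ e.inv ≫ i) = 1)
    {X : Over S} (x : X ⟶ Red.Ga S) (hx : Red.gaFn x ^ p = Red.gaFn x) : ∃ c : X ⟶ G', c ≫ i = x := by
  haveI := mono_left e i he hp hi
  obtain ⟨φ⟩ := charZero_elim (natCast_eq_zero hp X)
  let t : ZMod p → Γ(X.left, ⊤) := fun a => ∏ b ∈ Finset.univ.erase a, (Red.gaFn x - φ b)
  let U : ZMod p → X.left.Opens := fun a => X.left.basicOpen (t a)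
  have hU : TopologicalSpace.IsOpenCover U := top_le_iff.1 fun y _ => by
    let gm := (X.left.presheaf.germ ⊤ y trivial).hom
    obtain ⟨a, ha⟩ := exists_factor (gm.comp φ) (gm (Red.gaFn x)) (by rw [← map_pow, hx])
    refine TopologicalSpace.Opens.mem_iSup.2 ⟨a, (Scheme.mem_basicOpen_top X.left _ y).2 ?_⟩
    show IsUnit (gm (t a))
    simp only [t, map_prod, map_sub]
    exact ha
  let 𝒰 := X.left.openCoverOfIsOpenCover U hU
  have hloc : ∀ a : ZMod p, ∃ c : (U a).toScheme ⟶ G'.left, c ≫ i.left = (U a).ι ≫ x.left := fun a => by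
    let Xa : Over S := Over.mk ((U a).ι ≫ X.hom)
    let w : Xa ⟶ X := Over.homMk (U a).ι rfl
    let c : Xa ⟶ G' := toUnit Xa ≫ TwC.pt S _ (Multiplicative.ofAdd a) ≫ e.inv
    refine ⟨c.left, ?_⟩
    have h : c ≫ i = w ≫ x := by
      apply GaPoints.gaFn_injective
      let r := w.left.appTop.hom
      rw [Category.assoc, Category.assoc, gaFn_pt e i he hi (r.comp φ), GaPoints.gaFn_comp]
      have h0 : (r (Red.gaFn x) - r (φ a)) * r (t a) = 0 := by
        rw [← map_sub, ← map_mul]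
        simp only [t]
        rw [Finset.mul_prod_erase Finset.univ (fun b => Red.gaFn x - φ b) (Finset.mem_univ a), prod_sub_eq, hx,
          sub_self, map_zero]
      have hu : IsUnit (r (t a)) := isUnit_appTop_basicOpen X.left (t a)
      exact (sub_eq_zero.1 ((IsUnit.mul_left_eq_zero hu).1 h0)).symm
    exact congrArg CommaMorphism.left h
  choose c hc using hloc
  let c₀ : X.left ⟶ G'.left := 𝒰.glueMorphisms c (fun a b => by
    rw [← cancel_mono i.left, Category.assoc, Category.assoc, hc, hc, ← Category.assoc, ← Category.assoc]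
    exact congrArg (· ≫ x.left) pullback.condition)
  have hc₀ : c₀ ≫ i.left = x.left := 𝒰.hom_ext _ _ fun a => by
    rw [← Category.assoc, Scheme.Cover.ι_glueMorphisms]
    exact hc a
  exact ⟨Over.homMk c₀ (by rw [← Over.w i, ← Category.assoc, hc₀, Over.w x]), Over.OverMorphism.ext hc₀⟩

/-- Sections after a finite free covering. -/
theorem isLocallyTrivialFor {F : Red.Ga S ⟶ Red.Ga S}
    (hF : ∀ (T : Over S) (x : T ⟶ Red.Ga S), Red.gaFn (x ≫ F) = Red.gaFn x ^ p) :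
    NonAbH1.IsLocallyTrivialFor Scheme.fpqcPrecoverage (Over.mk (𝟙 (Red.Ga S) * F⁻¹).left : Over (Red.Ga S).left) := by
  let G : Scheme.{u} := (Red.Ga S).left
  let W : G.affineOpens → CommRingCat.{u} := fun V => Γ(G, V.1)
  let t : ∀ V, Spec (W V) ⟶ G := fun V => V.2.fromSpec
  let b : ∀ V, W V := fun V => (Scheme.ΓSpecIso (W V)).hom
    (Red.gaFn (Over.homMk (t V) rfl : Over.mk (t V ≫ (Red.Ga S).hom) ⟶ Red.Ga S))
  let f : ∀ V, Polynomial (W V) := fun V => Polynomial.X ^ p - (Polynomial.X - Polynomial.C (b V))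
  have hm : ∀ V, (f V).Monic := fun V => Polynomial.monic_X_pow_sub
    ((Polynomial.degree_X_sub_C_le _).trans_lt (by exact_mod_cast (Fact.out : p.Prime).one_lt))
  let B : G.affineOpens → CommRingCat.{u} := fun V => CommRingCat.of (AdjoinRoot (f V))
  let α : ∀ V, W V ⟶ B V := fun V => CommRingCat.ofHom (AdjoinRoot.of (f V))
  have hdeg : ∀ V, Nontrivial (W V) → (f V).natDegree ≠ 0 := fun V _ h => by
    have h1 : (f V).coeff p = 0 := Polynomial.coeff_eq_zero_of_natDegree_lt (h ▸ (Fact.out : p.Prime).pos)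
    simp [f, Polynomial.coeff_X, (Fact.out : p.Prime).one_lt.ne, (Fact.out : p.Prime).ne_zero, Polynomial.coeff_C] at h1
  let k : ∀ V, Spec (B V) ⟶ G := fun V => Spec.map (α V) ≫ t V
  haveI hflat : ∀ V, (@Flat ⊓ @LocallyOfFinitePresentation : MorphismProperty Scheme.{u}) (Spec.map (α V)) := fun V => by
    haveI := (hm V).free_adjoinRoot
    haveI := (hm V).finite_adjoinRoot
    exact ⟨(HasRingHomProperty.Spec_iff (P := @Flat)).2
        (RingHom.flat_algebraMap_iff.2 (inferInstance : Module.Flat (W V) (AdjoinRoot (f V)))),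
      (HasRingHomProperty.Spec_iff (P := @LocallyOfFinitePresentation)).2
        (RingHom.finitePresentation_algebraMap.2 inferInstance)⟩
  refine ⟨Presieve.ofArrows (fun V => Spec (B V)) k, Scheme.fppfPrecoverage_le_fpqcPrecoverage _ ?_, ?_⟩
  · rw [Scheme.fppfPrecoverage, Scheme.ofArrows_mem_precoverage_iff]
    refine ⟨fun y => ?_, fun V => ?_⟩
    · obtain ⟨V, hV, hyV, -⟩ := exists_isAffineOpen_mem_and_subset (x := y) (U := ⊤) trivial
      obtain ⟨P, hP⟩ : y ∈ Set.range (t ⟨V, hV⟩) := hV.range_fromSpec.symm ▸ hyV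
      haveI := (hm ⟨V, hV⟩).free_adjoinRoot
      haveI : Nontrivial (W ⟨V, hV⟩) := (P : PrimeSpectrum (W ⟨V, hV⟩)).nontrivial
      haveI : Nontrivial (AdjoinRoot (f ⟨V, hV⟩)) :=
        ⟨⟨(AdjoinRoot.powerBasisAux' (hm _)) ⟨0, Nat.pos_of_ne_zero (hdeg _ ‹_›)⟩, 0, Module.Basis.ne_zero _ _⟩⟩
      obtain ⟨Q, hQ⟩ := PrimeSpectrum.comap_surjective_of_faithfullyFlat (A := W ⟨V, hV⟩) (B := AdjoinRoot (f ⟨V, hV⟩)) P
      refine ⟨⟨V, hV⟩, Q, ?_⟩
      show (Spec.map (α ⟨V, hV⟩) ≫ t ⟨V, hV⟩) Q = y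
      rw [Scheme.Hom.comp_apply, ← hP]
      exact congrArg _ hQ
    · exact ⟨haveI := (hflat V).1; inferInstance, haveI := (hflat V).2; inferInstance⟩
  · rintro S' g ⟨V⟩
    let Y : Over S := Over.mk (k V ≫ (Red.Ga S).hom)
    let r : Γ(Spec (B V), ⊤) := (Scheme.ΓSpecIso (B V)).inv (AdjoinRoot.root (f V))
    obtain ⟨x, hx⟩ := GaPoints.gaFn_surjective (X := Y) r
    refine ⟨x.left, ?_⟩
    let y₀ : Over.mk (t V ≫ (Red.Ga S).hom) ⟶ Red.Ga S := Over.homMk (t V) rfl
    let w : Y ⟶ Over.mk (t V ≫ (Red.Ga S).hom) := Over.homMk (Spec.map (α V)) (Category.assoc _ _ _).symm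
    have h : x ≫ (𝟙 (Red.Ga S) * F⁻¹) = w ≫ y₀ := by
      apply GaPoints.gaFn_injective
      rw [gaFn_asMap hF, hx, GaPoints.gaFn_comp]
      have hroot := AdjoinRoot.eval₂_root (f V)
      simp only [f, Polynomial.eval₂_sub, Polynomial.eval₂_X_pow, Polynomial.eval₂_X, Polynomial.eval₂_C] at hroot
      have h1 : AdjoinRoot.root (f V) - AdjoinRoot.root (f V) ^ p = AdjoinRoot.of (f V) (b V) := by
        linear_combination -hroot
      have h2 := congrArg (Scheme.ΓSpecIso (B V)).inv.hom h1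
      rw [map_sub, map_pow] at h2
      refine h2.trans ?_
      have h3 := congrArg (fun z => z.hom (b V)) (Scheme.ΓSpecIso_inv_naturality (α V))
      refine h3.trans ?_
      show (Spec.map (α V)).appTop ((Scheme.ΓSpecIso (W V)).inv ((Scheme.ΓSpecIso (W V)).hom _)) = _
      rw [← CommRingCat.comp_apply (Scheme.ΓSpecIso (W V)).hom, Iso.hom_inv_id, CommRingCat.id_apply]
      rfl
    exact congrArg CommaMorphism.left h

/-- The Artin–Schreier sequence. -/
theorem isExactSeq [IsMonHom i] (he : TwC.IsConstGrp (Multiplicative (ZMod p)) G' e)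
    (hp : (p : Γ(S, ⊤)) = 0) {F : Red.Ga S ⟶ Red.Ga S}
    (hF : ∀ (T : Over S) (x : T ⟶ Red.Ga S), Red.gaFn (x ≫ F) = Red.gaFn x ^ p)
    (hi : Red.gaFn (TwC.pt S (Multiplicative (ZMod p)) (Multiplicative.ofAdd 1) ≫ e.inv ≫ i) = 1) :
    NonAbH1.IsExactSeq Scheme.fpqcPrecoverage i (𝟙 (Red.Ga S) * F⁻¹) := by
  haveI := isMonHom_asMap hp hF
  haveI := mono_left e i he hp hi
  haveI : Mono i := Over.mono_of_mono_left i
  have hiv : i ≫ (𝟙 (Red.Ga S) * F⁻¹) = 1 := by
    have h1 : ∀ X : Over S, ∀ k : X ⟶ G', Red.gaFn (k ≫ i) ^ p = Red.gaFn (k ≫ i) := fun X k => by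
      obtain ⟨φ⟩ := charZero_elim (natCast_eq_zero hp X)
      have hY : ∀ y : X.left, ∃ a : ZMod p, ∃ U : X.left.Opens, y ∈ U ∧
          U.ι ≫ (k ≫ e.hom).left = (U.ι ≫ X.hom) ≫ Sigma.ι (fun _ : Multiplicative (ZMod p) => S)
            (Multiplicative.ofAdd a) := fun y => by
        obtain ⟨c, z, hz⟩ : ∃ (c : Multiplicative (ZMod p)) (z : S),
            Sigma.ι (fun _ : Multiplicative (ZMod p) => S) c z = (k ≫ e.hom).left y :=
          (sigmaOpenCover fun _ : Multiplicative (ZMod p) => S).exists_eq ((k ≫ e.hom).left y)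
        let inc : S ⟶ _ := Sigma.ι (fun _ : Multiplicative (ZMod p) => S) c
        haveI : IsOpenImmersion inc := (sigmaOpenCover fun _ : Multiplicative (ZMod p) => S).map_prop c
        refine ⟨Multiplicative.toAdd c, (k ≫ e.hom).left ⁻¹ᵁ inc.opensRange, ⟨z, hz⟩, ?_⟩
        rw [ofAdd_toAdd]
        let U := (k ≫ e.hom).left ⁻¹ᵁ inc.opensRange
        let l : U.toScheme ⟶ S := IsOpenImmersion.lift inc (U.ι ≫ (k ≫ e.hom).left) (by
          rintro _ ⟨z, rfl⟩
          rw [Scheme.Hom.comp_apply]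
          exact z.2)
        have hl : l ≫ inc = U.ι ≫ (k ≫ e.hom).left := IsOpenImmersion.lift_fac _ _ _
        have h2 := congrArg (· ≫ (TwC.const S (Multiplicative (ZMod p))).hom) hl
        simp only [Category.assoc, Over.w (k ≫ e.hom)] at h2
        have h3 : inc ≫ (TwC.const S (Multiplicative (ZMod p))).hom = 𝟙 S := Sigma.ι_desc _ _
        rw [h3, Category.comp_id] at h2
        exact hl.symm.trans (by rw [h2])
      refine TopCat.Presheaf.section_ext X.left.sheaf ⊤ _ _ fun y _ => ?_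
      obtain ⟨a, U, hyU, hU⟩ := hY y
      let XU : Over S := Over.mk (U.ι ≫ X.hom)
      let w : XU ⟶ X := Over.homMk U.ι rfl
      let r := U.ι.appTop.hom
      have h2 : w ≫ k ≫ i = toUnit XU ≫ TwC.pt S _ (Multiplicative.ofAdd a) ≫ e.inv ≫ i := by
        have h3 : w ≫ k ≫ e.hom = toUnit XU ≫ TwC.pt S _ (Multiplicative.ofAdd a) :=
          Over.OverMorphism.ext (hU.trans (by simp [TwC.pt, XU]))
        rw [← reassoc_of% h3, Iso.hom_inv_id_assoc]
      have h4 : r (Red.gaFn (k ≫ i)) = r (φ a) := by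
        have h5 := congrArg Red.gaFn h2
        rw [GaPoints.gaFn_comp, gaFn_pt e i he hi (r.comp φ)] at h5
        exact h5
      have h6 : r (Red.gaFn (k ≫ i) ^ p) = r (Red.gaFn (k ≫ i)) := by
        rw [map_pow, h4, ← map_pow, ← map_pow, ZMod.pow_card]
      exact germ_eq_of_appTop_ι_eq U hyU h6
    apply GaPoints.gaFn_injective
    rw [gaFn_asMap hF, GaPoints.gaFn_one, sub_eq_zero]
    have := h1 G' (𝟙 G')
    rw [Category.id_comp] at this
    exact this.symm
  exact ⟨‹IsMonHom i›, ‹_›, hiv, DSMapLib.isPullback_of_pts i _ hiv fun x hx => exists_lift e i he hp hi x (by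
    have h := congrArg Red.gaFn hx
    rw [gaFn_asMap hF, GaPoints.gaFn_one, sub_eq_zero] at h
    exact h.symm), isLocallyTrivialFor hF⟩

end Groth.Agent.ASSeq
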